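import Cfsg.Agent.H0.TC
set_option maxRecDepth 100000
namespace H0.TCM221
open H0
noncomputable def r0 : TC.WTr := (.node (.node (.node (.node (.node (.node (.leaf [0] 0 0 false) (.leaf [11] 11 1 false)) (.leaf [7, 6] 27 1 false)) (.node (.leaf [1, 4, 1, 12] 46 4 false) (.leaf [10] 9 0 false))) (.node (.node (.leaf [5, 8, 9, 2, 6, 9] 51 2 true) (.leaf [8] 8 0 false)) (.node (.leaf [10, 4, 6, 4] 29 3 false) (.leaf [1, 1, 10, 2, 2, 7] 53 6 false)))) (.node (.node (.node (.leaf [0] 0 0 false) (.leaf [5, 5] 27 0 true)) (.node (.leaf [3] 3 1 false) (.leaf [10, 10] 14 0 true))) (.node (.node (.leaf [10, 5, 1, 10, 8, 6] 51 4 false) (.leaf [11, 9] 15 2 true)) (.node (.leaf [6] 5 0 false) (.leaf [11] 11 1 false))))) (.node (.node (.node (.node (.leaf [1, 0, 2, 0, 1, 4, 2, 2, 0, 2] 40 4 false) (.leaf [5] 5 1 false)) (.node (.leaf [4] 3 0 false) (.leaf [9] 9 1 false))) (.node (.node (.leaf [1]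 1 1 false) (.leaf [10, 12] 15 0 false)) (.node (.leaf [7, 5] 27 2 true) (.leaf [5, 12, 10, 6, 7, 9, 7] 38 3 true)))) (.node (.node (.node (.leaf [3, 1, 8, 2, 3, 6] 52 2 true) (.leaf [4, 1, 6, 10, 1, 9] 50 1 true)) (.node (.leaf [1, 8, 2, 4, 2, 5] 52 6 false) (.leaf [7, 11, 3, 0] 45 1 false))) (.node (.node (.leaf [1] 1 1 false) (.leaf [1, 5, 8, 9, 2, 6] 51 1 true)) (.node (.leaf [5] 5 1 false) (.leaf [7, 1, 1, 9, 2, 2] 53 0 true))))))
noncomputable def r1 : TC.WTr := (.node (.node (.node (.node (.node (.node (.leaf [10, 7, 11, 3] 45 0 false) (.leaf [11] 11 1 false)) (.leaf [7, 9, 7, 11, 5, 12, 10] 38 7 true)) (.node (.leaf [5, 8, 4, 6, 6] 28 4 true) (.leaf [10] 9 0 false))) (.node (.node (.leaf [0, 1, 1, 3, 2, 0, 1, 0, 2, 0] 40 7 true) (.leaf [2, 2, 8, 1, 1] 49 2 false)) (.node (.leaf [3] 3 1 false) (.leaf [1, 0, 2, 3, 10, 7] 47 3 true)))) (.node (.node (.node (.leaf [0] 0 0 false)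 (.leaf [6, 6] 27 2 false)) (.node (.leaf [6, 6, 3, 5, 8] 28 1 true) (.leaf [5, 10, 6, 7, 10, 5] 36 3 true))) (.node (.node (.leaf [6, 9, 1, 5, 8, 9] 51 6 true) (.leaf [8] 8 0 false)) (.node (.leaf [6] 5 0 false) (.leaf [8, 10] 15 2 false))))) (.node (.node (.node (.node (.leaf [1, 6, 2, 2, 0, 1, 0, 2, 0, 1, 1] 41 9 false) (.leaf [5] 5 1 false)) (.node (.leaf [4] 3 0 false) (.leaf [2, 2, 7, 11, 1, 1] 53 2 false))) (.node (.node (.leaf [3, 7, 10, 2, 9, 5] 50 3 false) (.leaf [4, 6, 6, 3, 5] 28 0 true)) (.node (.leaf [10, 5, 10, 6, 7, 10] 36 2 true) (.leaf [12] 11 0 false)))) (.node (.node (.node (.leaf [8, 2, 3, 6, 1, 3] 52 4 true) (.leaf [10, 7, 10, 7, 10] 18 1 true)) (.node (.leaf [5, 9, 4, 8, 9] 35 2 true) (.leaf [9] 9 1 false))) (.node (.node (.leaf [1] 1 1 false) (.leaf [10] 9 0 false)) (.node (.leaf [1, 3, 1, 8, 2, 3] 52 1 true) (.leaf [10, 7, 9, 11, 7] 24 1 false))))))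
noncomputable def tS : Tr := (.leaf (nat_lit 0xffc5d560670bca27d5891f1fe6c99880615ffe075c42f1f5cb4d49272d8b6089f5bce2ffdd56a5866bde1831e1775d3755af5082fffc976d0640b9ca680e23356e688ce38ddaffdca6a02e1e9b4628e33e0cb3309b61cfaffdc57d8862c8bc539f568ce22b9016502effc5a05d345245a17558279a33896f5c588ffd5d5206f1055212d3005cc05a99f3aceaffd8d6cc9e68545184174c06d5c1882edcaffc49059a12d05b2188c21d5c1046f72d6fffc1617ca211d5c44d475212e5658d57985ffc471f45b058441dc742194562e216e159ffd4f1745e288161d0725cda2514432e20cffc6e72c401c87405844115f5301623b52dffc411dc4122c771105b058a2884d917cfeffda1214531485d1681616d877d5893d851ffd9f2e45013c822b05725816228df1704effc571b04215c421b0821b4af37c16104dfffc3816861169724c0370d85f0ac5700117ffc350d03316c320c4300bc410b8000b42bffc00000000000000000000000001705815))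
noncomputable def tJ : Tr := (.leaf (nat_lit 0x24010122749866019005000588108014a429860000080000021ca73c52008c8f39cc3300c00280003c0430005214c0000064000000000001eb00d870108502000208a0004c230c8c18c00018001140503044000015806d2008018042000ac034040808000800181200808d18060180001a0050000d28c0000801380241800d1040000085008020006068801108c028000001a00008501004000021040d00c0010020080211002068461000000000000020580400000000000001601000a5294a5294a50001))
noncomputable def tQ : Tr := (.leaf (nat_lit 0x0))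
noncomputable def tR : TC.WTr := (.node (.node r0 (.node (.node (.node (.node (.node (.leaf [2, 12, 7, 9, 4, 1] 47 1 false) (.leaf [3, 10, 8, 3, 10] 35 2 false)) (.node (.leaf [3, 5, 3, 9] 29 1 true) (.leaf [10] 9 0 false))) (.node (.node (.leaf [9, 7, 4, 1, 6, 10] 50 6 true) (.leaf [6, 8, 7, 5] 34 1 false)) (.node (.leaf [6] 5 0 false) (.leaf [2, 3, 2, 4] 46 1 true)))) (.node (.node (.node (.leaf [2] 1 0 false) (.leaf [9, 0, 4, 12] 45 2 true)) (.node (.leaf [10, 7, 3, 11] 33 2 false) (.leaf [6, 10, 7, 5, 10, 6] 37 3 false))) (.node (.node (.leaf [9, 5, 2, 3, 7, 10] 50 0 false) (.leaf [10] 9 0 false)) (.node (.leaf [6] 5 0 false) (.leaf [1, 6, 12, 1, 6] 48 1 true))))) (.node (.node (.node (.node (.leaf [0] 0 0 false) (.leaf [7] 7 0 false)) (.node (.leaf [4] 3 0 false) (.leaf [1, 9, 7, 4, 1, 6] 50 5 true))) (.node (.node (.leaf [4, 2, 5, 4, 1, 8] 52 2 false) (.leaf [6, 7, 8, 5] 34 3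 true)) (.node (.leaf [2, 0, 2, 2, 0, 1, 0, 2, 0, 1, 1] 41 0 true) (.leaf [12] 11 0 false)))) (.node (.node (.node (.leaf [10, 2, 2, 7, 11, 1] 53 1 false) (.leaf [9, 7, 9, 7, 9] 18 0 false)) (.node (.leaf [6, 4, 4, 10] 29 0 false) (.leaf [12] 11 0 false))) (.node (.node (.leaf [4] 3 0 false) (.leaf [10] 9 0 false)) (.node (.leaf [6, 7] 27 0 false) (.leaf [11] 11 1 false))))))) (.node r1 (.node (.node (.node (.node (.node (.leaf [4, 12, 7, 9] 45 4 true) (.leaf [5] 5 1 false)) (.node (.leaf [2, 0, 1, 0, 2, 0, 1, 0, 1, 1] 40 0 true) (.leaf [10] 9 0 false))) (.node (.node (.leaf [2] 1 0 false) (.leaf [6, 2, 10, 5, 1, 10] 51 2 false)) (.node (.leaf [5, 7] 27 1 true) (.leaf [7, 12, 10, 7, 9] 24 5 false)))) (.node (.node (.node (.leaf [1, 1, 1] 39 0 false) (.leaf [8, 7, 8] 16 0 false)) (.node (.leaf [4, 10, 4, 6] 29 2 false) (.leaf [7, 9, 11, 7, 12] 24 2 false))) (.node (.node (.leaf [12,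 7, 9, 4, 1, 0] 47 2 false) (.leaf [8, 11] 15 1 true)) (.node (.leaf [6] 5 0 false) (.leaf [12, 12] 13 0 true))))) (.node (.node (.node (.node (.leaf [0] 0 0 false) (.leaf [1, 1, 9, 2, 2, 12] 53 1 true)) (.node (.leaf [4] 3 0 false) (.leaf [2, 9, 5, 2, 3, 7] 50 6 false))) (.node (.node (.leaf [4, 11, 2, 3] 46 4 true) (.leaf [10, 8, 10, 8, 10] 21 1 true)) (.node (.leaf [9, 5, 9, 6, 7, 9] 37 2 true) (.leaf [12] 11 0 false)))) (.node (.node (.node (.leaf [10, 8, 6, 2, 10, 5] 51 0 false) (.leaf [3, 11, 4, 10] 33 4 false)) (.node (.leaf [2, 2, 0, 2, 0, 1, 0, 2, 0, 1] 40 10 false) (.leaf [6, 12, 7, 10, 7, 5, 9] 38 2 false))) (.node (.node (.leaf [2, 4, 11, 2] 46 3 true) (.leaf [10] 9 0 false)) (.node (.leaf [8, 7, 5, 8] 34 2 false) (.leaf [11] 11 1 false))))))))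
def hl : List ℕ := [3, 4, 4, 3, 5, 6, 6, 5, 7, 8, 9, 10, 10, 9, 11, 12, 12, 11]
def B : List (List ℕ) := [[0, 0], [1, 2], [2, 1], [3, 4], [4, 3], [5, 6], [6, 5], [7, 7], [8, 8], [9, 10], [10, 9], [11, 12], [12, 11], [11, 11, 11], [9, 9, 9], [8, 10, 12], [7, 8, 7, 8], [7, 8, 7, 8], [7, 9, 7, 9, 7, 9], [7, 9, 7, 10, 7, 9, 7, 10], [7, 10, 7, 10, 7, 10], [8, 9, 8, 9, 8, 9], [8, 9, 8, 10, 8, 9, 8, 10], [8, 10, 8, 10, 8, 10], [7, 12, 10, 7, 9, 11], [3, 3, 3, 3, 3], [5, 5, 5, 5], [6, 6, 7], [6, 4, 5, 5, 3, 8], [4, 6, 4, 4, 10], [3, 5, 3, 5, 3, 5, 3, 5, 3, 5], [3, 5, 4, 6, 3, 5, 4, 6, 3, 5, 4, 6], [3, 6, 3, 6, 3, 6, 3, 6, 3, 6], [3, 11, 4, 10, 7], [5, 8, 6, 8, 7], [3, 10, 6, 3, 10, 8], [5, 9, 6, 9, 6, 9, 7], [5, 10, 6, 10, 6, 10, 7], [5, 9, 11, 6, 12, 7, 10, 7], [1, 1, 1, 1], [2, 2, 0, 2, 0, 1, 0, 2, 0, 1, 4], [2, 2, 0, 1, 0, 2, 0, 1, 1, 0, 1, 6], [0, 1, 0, 1, 0, 1, 0, 1, 0, 1, 0, 1, 0, 1],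 [0, 1, 0, 2, 0, 1, 0, 2, 0, 1, 0, 2, 0, 1, 0, 2, 0, 1, 0, 2], [0, 2, 0, 2, 0, 2, 0, 2, 0, 2, 0, 2, 0, 2], [0, 10, 7, 11, 3], [1, 4, 1, 12, 3], [1, 0, 2, 12, 7, 9, 4], [2, 11, 5, 2, 11, 5], [1, 1, 8, 2, 2, 8], [2, 9, 5, 2, 3, 7, 10], [1, 10, 8, 6, 2, 10, 5], [1, 8, 2, 4, 2, 5, 4], [1, 1, 10, 2, 2, 7, 11]]
def subs : List (List ℕ) := [[3], [4], [5], [6], [7], [8], [9], [10], [11], [12]]
def ex : List (List ℕ) := []
def inv (x : ℕ) : ℕ := [0, 2, 1, 4, 3, 6, 5, 7, 8, 10, 9, 12, 11].getD x 0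
noncomputable def rS : ℕ → ℕ := rowOf tS (nat_lit 7) (nat_lit 127) (nat_lit 140) (nat_lit 1393796574908163946345982392040522594123775)
noncomputable def rJ : ℕ → ℕ := rowOf tJ (nat_lit 7) (nat_lit 127) (nat_lit 75) (nat_lit 37778931862957161709567)
noncomputable def C : TC.Cfg where
  S := look rS (nat_lit 10) (nat_lit 1023)
  J := look rJ (nat_lit 5) (nat_lit 31)
  Q := lookQ tQ (nat_lit 7) (nat_lit 1) (nat_lit 1)
  R := tR.get
  hl := fun x => hl.contains x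
  n := (nat_lit 21)
  M := (nat_lit 21)
  top := (nat_lit 546)
  nl := (nat_lit 13)
  need := (nat_lit 13)
  nr := (nat_lit 10)
theorem k0 : TC.chkRange C 0 1 = true := by decide +kernel
theorem rows0 : ∀ c < (0 + 1) * 64, c < C.M → TC.chkRow C c = true :=
  TC.rows_step (TC.rows_zero C) k0
theorem main {G : Type*} [Group G] (g : ℕ → G) (hB : ∀ r ∈ B, ev g r = 1) (H : Subgroup G)
    (hH : ∀ w ∈ subs, ev g w ∈ H) :
    H.relIndex (Subgroup.closure (g '' {x | x < 13})) ≠ 0 ∧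
      H.relIndex (Subgroup.closure (g '' {x | x < 13})) ≤ 21 :=
  TC.index_le C B subs ex inv hl tR.hint rfl (by decide +kernel) (by decide +kernel)
    (TC.rows_done rows0 (by decide +kernel)) g hB H hH
end H0.TCM221
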